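import Cfsg.Agent.Lib.Helper12.TC.CoxE6x51840.Live

/-! the final table for CoxE6x51840, part 0 (generated, helper12) -/

set_option autoImplicit false
set_option maxRecDepth 100000

namespace Cfsg.Agent.Lib.Helper12.TC.CoxE6x51840

open Cfsg.Agent.Lib.Helper12.TC

theorem hfin_0 : allListK fr0 (fun rec => finRec F LIVE cK 6 rec) = true := by decide +kernel

end Cfsg.Agent.Lib.Helper12.TC.CoxE6x51840
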